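import Groth.Agent.S2644
import Groth.Agent.S2650
import Groth.Agent.S2651
import Groth.Agent.S2684
import Groth.Agent.L05.Henselization.FormalPrime
import Groth.Agent.L01.CompletionReg
import Mathlib.RingTheory.DedekindDomain.IntegralClosure
import Mathlib.RingTheory.AdicCompletion.Functoriality
import Mathlib.RingTheory.AdicCompletion.Noetherian
import Mathlib.RingTheory.AdicCompletion.Completeness
import Mathlib.RingTheory.Filtration
import Mathlib.RingTheory.IntegralClosure.GoingDown
import Mathlib.RingTheory.KrullDimension.NonZeroDivisors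
import Mathlib.RingTheory.Ideal.KrullsHeightTheorem
import Mathlib.RingTheory.Ideal.GoingUp

/-!
# Completions of localisations of finite normal algebras over excellent rings, and unramifiedness
-/

set_option autoImplicit false
set_option linter.style.haveILetI false

universe u

namespace Groth.L28.CplUnram

open IsLocalRing

/-- The completion of a local ring of a finite type normal algebra over an excellent ring is a normal domain. -/
theorem completion_normal_domain {R : Type u} [CommRing R] (hR : EGA4.IsExcellent R)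
    (C : Type u) [CommRing C] [IsDomain C] [IsIntegrallyClosed C] [Algebra R C] [Algebra.FiniteType R C]
    (P : Ideal C) [P.IsPrime] (T : Type u) [CommRing T] [IsDomain T] [IsLocalRing T] [Algebra C T]
    [IsLocalization.AtPrime T P] :
    IsNoetherianRing T ∧ IsDomain (EGA4.Cpl T) ∧ IsIntegrallyClosed (EGA4.Cpl T) := by
  have hC := Groth.Agent.S2651.result R hR C
  have hL := Groth.Agent.S2650.result C hC P.primeCompl
  let e : Localization P.primeCompl ≃ₐ[C] T := IsLocalization.algEquiv P.primeCompl _ _
  letI : Algebra (Localization P.primeCompl) T := e.toRingEquiv.toRingHom.toAlgebra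
  haveI : Module.Finite (Localization P.primeCompl) T :=
    Module.Finite.of_surjective (Algebra.linearMap (Localization P.primeCompl) T) e.surjective
  have hT := Groth.Agent.S2651.result (Localization P.primeCompl) hL T
  haveI : IsNoetherianRing T := hT.1
  haveI : IsIntegrallyClosed T :=
    isIntegrallyClosed_of_isLocalization T P.primeCompl P.primeCompl_le_nonZeroDivisors
  have hgn := Groth.L05.Henselization.FormalDomain.hasGeomNormalFormalFibres_of_gRing hT.2.2.1
  have hunib : CAlg2.IsUnibranch T := by
    have hnil : nilradical T = ⊥ := nilradical_eq_zero T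
    let e : CAlg2.red T ≃+* T := (Ideal.quotEquivOfEq hnil).trans (RingEquiv.quotientBot T)
    haveI hd : IsDomain (CAlg2.red T) := e.toMulEquiv.isDomain
    haveI : IsIntegrallyClosed (CAlg2.red T) := IsIntegrallyClosed.of_equiv e.symm
    haveI : IsLocalRing (CAlg2.red T) := IsLocalRing.of_surjective' e.symm.toRingHom e.symm.surjective
    refine ⟨hd, ?_⟩
    exact IsLocalRing.of_surjective' (algebraMap (CAlg2.red T) (CAlg2.normRed T)) fun x => by
      obtain ⟨y, hy⟩ := IsIntegrallyClosed.isIntegral_iff.1 x.2
      exact ⟨y, Subtype.ext hy⟩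
  haveI hdom : IsDomain (EGA4.Cpl T) := (Groth.Agent.S2684.result T hgn).1.2 hunib
  have hN : EGA4.IsNormalRing T := fun p _ => ⟨inferInstance,
    isIntegrallyClosed_of_isLocalization (Localization.AtPrime p) p.primeCompl p.primeCompl_le_nonZeroDivisors⟩
  exact ⟨inferInstance, hdom, IsIntegrallyClosed.of_localization_maximal fun p _ _ =>
    ((Groth.Agent.S2644.result T hgn).1 hN p).2⟩

/-- An integral map from a normal domain to a domain of at least the same dimension is surjective as soon
as it is surjective on fractions. -/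
theorem surjective_of_fractions {T A : Type u} [CommRing T] [CommRing A] [IsDomain T] [IsDomain A]
    [IsIntegrallyClosed T] [Algebra T A] [Algebra.IsIntegral T A]
    (hdim : ringKrullDim T ≤ ringKrullDim A) (htop : ringKrullDim T < ⊤)
    (hfrac : ∀ x : A, ∃ a b : T, algebraMap T A b ≠ 0 ∧ x * algebraMap T A b = algebraMap T A a) :
    Function.Surjective (algebraMap T A) := by
  have hinj : Function.Injective (algebraMap T A) := by
    rw [injective_iff_map_eq_zero]
    intro r hr
    by_contra hr0
    let Q := RingHom.ker (algebraMap T A)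
    letI : Algebra (T ⧸ Q) A := (RingHom.kerLift (algebraMap T A)).toAlgebra
    haveI : IsScalarTower T (T ⧸ Q) A := IsScalarTower.of_algebraMap_eq fun _ => rfl
    haveI : Algebra.IsIntegral (T ⧸ Q) A := ⟨fun x => (Algebra.IsIntegral.isIntegral (R := T) x).tower_top⟩
    have h1 : ringKrullDim A ≤ ringKrullDim (T ⧸ Q) :=
      Order.krullDim_le_of_strictMono (PrimeSpectrum.comap (algebraMap (T ⧸ Q) A)) fun I J h =>
        Ideal.IsIntegral.comap_lt_comap (I := I.asIdeal) (J := J.asIdeal) h
    have h2 : ringKrullDim (T ⧸ Q) + 1 ≤ ringKrullDim T :=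
      ringKrullDim_succ_le_of_surjective (Ideal.Quotient.mk Q) Ideal.Quotient.mk_surjective
        (mem_nonZeroDivisors_of_ne_zero hr0) (Ideal.Quotient.eq_zero_iff_mem.2 hr)
    have h3 : ringKrullDim T + 1 ≤ ringKrullDim T := (add_le_add (hdim.trans h1) le_rfl).trans h2
    have h4 : (0 : WithBot ℕ∞) ≤ ringKrullDim T := ringKrullDim_nonneg_of_nontrivial
    revert h3 h4 htop
    generalize ringKrullDim T = d
    intro htop h3 h4
    cases d with
    | bot => simp at h4
    | coe d =>
      cases d with
      | top => exact lt_irrefl _ htop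
      | coe n =>
        have : n + 1 ≤ n := by exact_mod_cast h3
        omega
  intro x
  obtain ⟨a, b, hb, hab⟩ := hfrac x
  let F := FractionRing T
  let G := FractionRing A
  let g : F →+* G := IsFractionRing.lift (g := (algebraMap A G).comp (algebraMap T A))
    ((IsFractionRing.injective A G).comp hinj)
  letI : Algebra F G := g.toAlgebra
  haveI : IsScalarTower T F G := IsScalarTower.of_algebraMap_eq fun t => by
    rw [IsScalarTower.algebraMap_apply T A G]
    exact (IsFractionRing.lift_algebraMap (g := (algebraMap A G).comp (algebraMap T A)) ((IsFractionRing.injective A G).comp hinj) t).symm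
  let z : F := algebraMap T F a / algebraMap T F b
  have hz : algebraMap F G z = algebraMap A G x := by
    rw [map_div₀, ← IsScalarTower.algebraMap_apply, ← IsScalarTower.algebraMap_apply,
      IsScalarTower.algebraMap_apply T A G a, IsScalarTower.algebraMap_apply T A G b, ← hab, map_mul,
      mul_div_assoc, div_self ((map_ne_zero_iff _ (IsFractionRing.injective A G)).2 hb), mul_one]
  have hint : IsIntegral T (algebraMap F G z) := by
    rw [hz]; exact (Algebra.IsIntegral.isIntegral (R := T) x).algebraMap
  obtain ⟨t, ht⟩ := IsIntegrallyClosed.algebraMap_eq_of_integral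
    ((isIntegral_algebraMap_iff (algebraMap F G).injective).1 hint)
  refine ⟨t, IsFractionRing.injective A G ?_⟩
  rw [← IsScalarTower.algebraMap_apply, IsScalarTower.algebraMap_apply T F G, ht, hz]

/-- If the map of completions is surjective and a power of the maximal ideal is extended from the base, the
extension is unramified with trivial residue extension. -/
theorem unramified_of_surjective {T A : Type u} [CommRing T] [CommRing A] [IsLocalRing T] [IsLocalRing A]
    [IsNoetherianRing T] [IsNoetherianRing A] [Algebra T A]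
    [Algebra (EGA4.Cpl T) (EGA4.Cpl A)]
    (hc : ∀ t : T, algebraMap (EGA4.Cpl T) (EGA4.Cpl A) (algebraMap T (EGA4.Cpl T) t) =
      algebraMap A (EGA4.Cpl A) (algebraMap T A t))
    (hle : (maximalIdeal T).map (algebraMap T A) ≤ maximalIdeal A) {N : ℕ}
    (hN : maximalIdeal A ^ N ≤ (maximalIdeal T).map (algebraMap T A))
    (hs : Function.Surjective (algebraMap (EGA4.Cpl T) (EGA4.Cpl A))) :
    (maximalIdeal T).map (algebraMap T A) = maximalIdeal A ∧
      ∀ a : A, ∃ t : T, a - algebraMap T A t ∈ maximalIdeal A := by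
  have key : ∀ a : A, ∃ t : T, a - algebraMap T A t ∈ (maximalIdeal T).map (algebraMap T A) := by
    intro a
    obtain ⟨y, hy⟩ := hs (algebraMap A _ a)
    obtain ⟨t, ht⟩ : ∃ t : T, y - algebraMap T (EGA4.Cpl T) t ∈
        (maximalIdeal T ^ N • ⊤ : Submodule T (EGA4.Cpl T)) := by
      obtain ⟨y', rfl⟩ := AdicCompletion.mk_surjective _ _ y
      refine ⟨y'.1 N, ?_⟩
      rw [AdicCompletion.pow_smul_top_eq_ker_eval (IsNoetherian.noetherian _), LinearMap.mem_ker, map_sub,
        sub_eq_zero]
      rfl
    refine ⟨t, hN ?_⟩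
    have key : algebraMap (EGA4.Cpl T) (EGA4.Cpl A) (y - algebraMap T (EGA4.Cpl T) t) ∈
        (maximalIdeal A ^ N • ⊤ : Submodule A (EGA4.Cpl A)) := by
      refine Submodule.smul_induction_on ht (fun r hr w _ => ?_) (fun u v hu hv => ?_)
      · rw [Algebra.smul_def, map_mul, hc, ← Algebra.smul_def]
        refine Submodule.smul_mem_smul ?_ trivial
        have := Ideal.mem_map_of_mem (algebraMap T A) hr
        rw [Ideal.map_pow] at this
        exact Ideal.pow_right_mono hle N this
      · rw [map_add]; exact add_mem hu hv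
    rw [map_sub, hy, hc, ← map_sub, AdicCompletion.pow_smul_top_eq_ker_eval (IsNoetherian.noetherian _),
      LinearMap.mem_ker] at key
    have h2 : Submodule.mkQ (maximalIdeal A ^ N • ⊤ : Submodule A A) (a - algebraMap T A t) = 0 := key
    rwa [Submodule.mkQ_apply, Submodule.Quotient.mk_eq_zero, smul_eq_mul, Ideal.mul_top] at h2
  refine ⟨le_antisymm hle fun a ha => ?_, fun a => ?_⟩
  · obtain ⟨t, ht⟩ := key a
    have h1 : algebraMap T A t ∈ maximalIdeal A := by
      have := sub_mem ha (hle ht)
      rwa [sub_sub_cancel] at this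
    have h2 : t ∈ maximalIdeal T := fun hu => (show ¬ IsUnit (algebraMap T A t) from h1) (hu.map _)
    have := add_mem ht (Ideal.mem_map_of_mem (algebraMap T A) h2)
    rwa [sub_add_cancel] at this
  · obtain ⟨t, ht⟩ := key a
    exact ⟨t, hle ht⟩

/-- An element of the fraction field of a normal Noetherian domain lying in a localisation of an integral
extension lies in the corresponding localisation of the domain. -/
theorem exists_denominator {B C M Ω : Type u} [CommRing B] [IsDomain B] [IsIntegrallyClosed B] [IsNoetherianRing B]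
    [CommRing C] [IsDomain C] [Algebra B C] [FaithfulSMul B C] [Algebra.IsIntegral B C]
    [Field M] [Algebra B M] [IsFractionRing B M] [Field Ω] [Algebra C Ω] [FaithfulSMul C Ω]
    (j : M →+* Ω) (hj : ∀ b, j (algebraMap B M b) = algebraMap C Ω (algebraMap B C b))
    (P : Ideal C) [P.IsPrime] (z : M)
    (hz : ∃ a b : C, b ∉ P ∧ j z * algebraMap C Ω b = algebraMap C Ω a) :
    ∃ s : B, s ∉ P.comap (algebraMap B C) ∧ ∃ c : B, algebraMap B M s * z = algebraMap B M c := by
  by_contra hcon
  push Not at hcon
  let J : B → Ideal B := fun r =>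
    { carrier := {c | ∃ e : B, algebraMap B M (c * r) * z = algebraMap B M e}
      add_mem' := fun {a b} ⟨e, he⟩ ⟨e', he'⟩ => ⟨e + e', by rw [add_mul a b r, map_add, map_add, add_mul, he, he']⟩
      zero_mem' := ⟨0, by simp⟩
      smul_mem' := fun d {a} ⟨e, he⟩ => ⟨d * e, by
        rw [smul_eq_mul, mul_assoc d a r, map_mul (algebraMap B M) d (a * r), map_mul (algebraMap B M) d e,
          mul_assoc, he]⟩ }
  set n := P.comap (algebraMap B C) with hn
  haveI hnp : n.IsPrime := Ideal.IsPrime.comap _
  have h1 : J 1 ≤ n := fun c ⟨e, he⟩ => by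
    by_contra hc
    exact hcon c hc e (by rwa [mul_one] at he)
  obtain ⟨p, ⟨r, hr, hpr⟩, hmax⟩ := set_has_maximal_iff_noetherian.2 (inferInstance : IsNoetherian B B)
    {I | ∃ r, I ≤ n ∧ I = J r} ⟨J 1, 1, h1, rfl⟩
  subst hpr
  have hpne : J r ≠ ⊤ := fun h => hnp.ne_top (top_le_iff.1 (h ▸ hr))
  have hsub : ∀ a, J r ≤ J (a * r) := fun a c ⟨e, he⟩ => ⟨a * e, by
    rw [mul_left_comm, map_mul (algebraMap B M) a (c * r), map_mul (algebraMap B M) a e, mul_assoc, he]⟩
  have heq : ∀ a, J (a * r) ≤ n → J (a * r) = J r := fun a h =>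
    ((hsub a).eq_of_not_lt (hmax _ ⟨_, h, rfl⟩)).symm
  have hprime : (J r).IsPrime := by
    refine ⟨hpne, fun {a b} hab => or_iff_not_imp_left.2 fun ha => ?_⟩
    have hb : b ∈ J (a * r) := by
      obtain ⟨e, he⟩ := hab
      exact ⟨e, by rw [← mul_assoc, mul_comm b a]; exact he⟩
    by_cases h : J (a * r) ≤ n
    · rwa [heq a h] at hb
    · obtain ⟨s, ⟨e, he⟩, hs⟩ := SetLike.not_le_iff_exists.1 h
      refine absurd ?_ ha
      have hle' : J (s * r) ≤ n := fun t ⟨e', he'⟩ => by
        have ht : t * s ∈ n := hr ⟨e', by rw [mul_assoc]; exact he'⟩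
        exact (hnp.mem_or_mem ht).resolve_right hs
      rw [← heq s hle']
      exact ⟨e, by rw [mul_left_comm]; exact he⟩
  haveI := hprime
  haveI : P.LiesOver n := ⟨rfl⟩
  obtain ⟨Q, hQle, hQ, hQo⟩ := Ideal.exists_ideal_le_liesOver_of_le (p := J r) (q := n) P hr
  haveI := hQ
  set w : M := algebraMap B M r * z with hw
  have hwQ : ∀ c ∈ J r, ∃ e ∈ J r, w * algebraMap B M c = algebraMap B M e := by
    rintro c ⟨e, he⟩
    refine ⟨e, ?_, by rw [hw, ← he, map_mul]; ring⟩
    obtain ⟨a, b, hb, hab⟩ := hz
    have hc : c ∈ J r := ⟨e, he⟩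
    rw [hQo.over, Ideal.under, Ideal.mem_comap] at hc ⊢
    have h2 : algebraMap B C e * b = algebraMap B C c * (algebraMap B C r * a) := by
      apply FaithfulSMul.algebraMap_injective C Ω
      rw [map_mul, map_mul, map_mul, ← hj, ← hj, ← hj, ← he, map_mul, map_mul, map_mul, ← hab]
      ring
    refine (hQ.mem_or_mem (h2 ▸ Ideal.mul_mem_right _ _ hc)).resolve_right fun h => hb (hQle h)
  have hint : IsIntegral B w := by
    obtain ⟨a, b, hb, hab⟩ := IsFractionRing.div_surjective B z
    have hb' : algebraMap B M b ≠ 0 :=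
      (map_ne_zero_iff _ (IsFractionRing.injective B M)).2 (nonZeroDivisors.ne_zero hb)
    have hbJ : b ∈ J r := ⟨r * a, by rw [map_mul, map_mul, ← hab]; field_simp⟩
    have hne : (Submodule.map (Algebra.linearMap B M) (J r)) ≠ ⊥ :=
      (Submodule.ne_bot_iff _).2 ⟨algebraMap B M b, ⟨b, hbJ, rfl⟩, hb'⟩
    refine isIntegral_of_smul_mem_submodule (M := M) _ hne ((IsNoetherian.noetherian (J r)).map _) w ?_
    rintro _ ⟨c, hc, rfl⟩
    obtain ⟨e, he, he'⟩ := hwQ c hc
    exact ⟨e, he, he'.symm⟩
  obtain ⟨e, he⟩ := IsIntegrallyClosed.isIntegral_iff.1 hint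
  exact hpne ((Ideal.eq_top_iff_one _).2 ⟨e, by rw [one_mul]; exact he.symm⟩)

end Groth.L28.CplUnram
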